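import Groth.Agent.GModComod.Stable
import Mathlib.AlgebraicGeometry.Morphisms.QuasiSeparated
import Mathlib.LinearAlgebra.TensorProduct.Pi
import Mathlib.Algebra.Module.Projective

/-!
# Global functions of a quasi-compact quasi-separated group scheme acting on a flat module
-/

set_option autoImplicit false
set_option linter.style.haveILetI false
set_option backward.isDefEq.respectTransparency false
set_option backward.isDefEq.respectTransparency.types false

universe u

noncomputable section

open CategoryTheory MonoidalCategory CartesianMonoidalCategory MonObj GrpObj AlgebraicGeometry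
  TopologicalSpace
open scoped TensorProduct

namespace Groth.Agent.GModPts19

variable {R : Type u} [CommRing R] {X : Over (Spec (CommRingCat.of R))}

variable (X) in
/-- The functions on an open. -/
def Sec (U : X.left.Opens) : Type u := Γ(X.left, U)

instance (U : X.left.Opens) : CommRing (Sec X U) := inferInstanceAs (CommRing Γ(X.left, U))

instance (U : X.left.Opens) : Algebra R (Sec X U) :=
  (((Scheme.ΓSpecIso (CommRingCat.of R)).inv ≫ X.hom.appLE ⊤ U le_top).hom : R →+* Γ(X.left, U)).toAlgebra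

/-- Restriction of functions. -/
def res {U V : X.left.Opens} (h : V ≤ U) : Sec X U →ₐ[R] Sec X V :=
  { (X.left.presheaf.map (homOfLE h).op).hom with
    commutes' := fun r =>
      congr($(X.hom.appLE_map (U := ⊤) le_top (homOfLE h).op) ((Scheme.ΓSpecIso (CommRingCat.of R)).inv r)) }

lemma res_apply {U V : X.left.Opens} (h : V ≤ U) (s : Sec X U) :
    res h s = (X.left.presheaf.map (homOfLE h).op).hom s := rfl

lemma res_comp {U V W : X.left.Opens} (h : V ≤ U) (h' : W ≤ V) :
    (res (X := X) h').comp (res h) = res (h'.trans h) := AlgHom.ext fun s =>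
  congr($((X.left.presheaf.map_comp (homOfLE h).op (homOfLE h').op).symm) s)

variable {B B' B'' : Type u} [CommRing B] [Algebra R B] [CommRing B'] [Algebra R B'] [CommRing B''] [Algebra R B'']

/-- The value of global functions at a point. -/
def valRing (t : VecGrp.pt R B ⟶ X) : Sec X ⊤ →+* B :=
  (t.left.appTop ≫ (Scheme.ΓSpecIso (CommRingCat.of B)).hom).hom

lemma valRing_algebraMap (t : VecGrp.pt R B ⟶ X) (c : R) :
    valRing t (algebraMap R (Sec X ⊤) c) = algebraMap R B c := by
  have e : X.hom.appLE ⊤ ⊤ le_top = X.hom.appTop := X.hom.app_eq_appLE.symm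
  change (Scheme.ΓSpecIso (CommRingCat.of B)).hom
    (t.left.appTop (X.hom.appLE ⊤ ⊤ le_top ((Scheme.ΓSpecIso (CommRingCat.of R)).inv c))) = _
  rw [e]
  change (Scheme.ΓSpecIso (CommRingCat.of B)).hom
    ((t.left ≫ X.hom).appTop ((Scheme.ΓSpecIso (CommRingCat.of R)).inv c)) = _
  rw [Over.w t]
  have h := Scheme.ΓSpecIso_naturality (CommRingCat.ofHom (algebraMap R B))
  refine (congr($h ((Scheme.ΓSpecIso (CommRingCat.of R)).inv c))).trans ?_
  exact congrArg (algebraMap R B) (Iso.inv_hom_id_apply (Scheme.ΓSpecIso (CommRingCat.of R)) c)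

/-- The value of global functions at a point, as an algebra map. -/
def val (t : VecGrp.pt R B ⟶ X) : Sec X ⊤ →ₐ[R] B :=
  { valRing t with commutes' := valRing_algebraMap t }

theorem val_ptMap (φ : B →ₐ[R] B') (t : VecGrp.pt R B ⟶ X) :
    val (VecGrp.ptMap φ ≫ t) = φ.comp (val t) := AlgHom.ext fun f => by
  change (Scheme.ΓSpecIso (CommRingCat.of B')).hom
    ((Spec.map (CommRingCat.ofHom φ.toRingHom)).appTop (t.left.appTop f)) = _
  have h := Scheme.ΓSpecIso_naturality (CommRingCat.ofHom φ.toRingHom)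
  exact congr($h (t.left.appTop f))

lemma ptMap_comp (φ : B →ₐ[R] B') (ψ : B' →ₐ[R] B'') :
    VecGrp.ptMap ψ ≫ VecGrp.ptMap φ = VecGrp.ptMap (ψ.comp φ) := by
  ext1
  exact (Spec.map_comp _ _).symm

lemma ptMap_comp_assoc (φ : B →ₐ[R] B') (ψ : B' →ₐ[R] B'') {Z : Over (Spec (CommRingCat.of R))}
    (t : VecGrp.pt R B ⟶ Z) :
    VecGrp.ptMap ψ ≫ VecGrp.ptMap φ ≫ t = VecGrp.ptMap (ψ.comp φ) ≫ t := by
  rw [← Category.assoc, ptMap_comp]

/-- The point of an affine open. -/
def uPt {U : X.left.Opens} (hU : IsAffineOpen U) : VecGrp.pt R (Sec X U) ⟶ X :=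
  Over.homMk hU.fromSpec (by
    show hU.fromSpec ≫ X.hom = Spec.map (CommRingCat.ofHom (algebraMap R (Sec X U)))
    rw [← (isAffineOpen_top _).SpecMap_appLE_fromSpec X.hom hU le_top, IsAffineOpen.fromSpec_top,
      Scheme.isoSpec_Spec_inv, ← Spec.map_comp]
    rfl)

lemma ptMap_res_uPt {U V : X.left.Opens} (hU : IsAffineOpen U) (hV : IsAffineOpen V) (h : V ≤ U) :
    VecGrp.ptMap (res h) ≫ uPt hU = uPt hV := by
  ext1
  exact hU.map_fromSpec hV (homOfLE h).op

lemma val_uPt {U : X.left.Opens} (hU : IsAffineOpen U) : val (uPt hU) = res (X := X) le_top := by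
  refine AlgHom.ext fun f => ?_
  change (Scheme.ΓSpecIso Γ(X.left, U)).hom (hU.fromSpec.appTop f) = _
  rw [Scheme.Hom.appTop, hU.fromSpec_app_of_le ⊤ le_top]
  change ((X.left.presheaf.map _ ≫ (Scheme.ΓSpecIso Γ(X.left, U)).inv ≫
    (Spec Γ(X.left, U)).presheaf.map _) ≫ (Scheme.ΓSpecIso Γ(X.left, U)).hom) f = _
  have e : ∀ (j : (Opposite.op ⊤ : (Spec Γ(X.left, U)).Opensᵒᵖ) ⟶ Opposite.op ⊤),
      (Spec Γ(X.left, U)).presheaf.map j = 𝟙 _ := fun j => by
    rw [show j = 𝟙 _ from Subsingleton.elim _ _, CategoryTheory.Functor.map_id]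
  refine Eq.trans ?_ (res_apply (X := X) le_top f).symm
  refine congrArg (fun φ : Γ(X.left, ⊤) ⟶ Γ(X.left, U) => φ.hom f) ?_
  erw [e, Category.comp_id]
  rw [Category.assoc, Iso.inv_hom_id, Category.comp_id]

variable (X) in
/-- A finite affine cover with finite affine covers of the overlaps. -/
structure Cover where
  κ : Type u
  [fin : Fintype κ]
  U : κ → X.left.Opens
  hU : ∀ i, IsAffineOpen (U i)
  iSup_U : (⊤ : X.left.Opens) ≤ ⨆ i, U i
  ω : Type u
  [finω : Fintype ω]
  l : ω → κ
  r : ω → κ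
  W : ω → X.left.Opens
  hW : ∀ w, IsAffineOpen (W w)
  hl : ∀ w, W w ≤ U (l w)
  hr : ∀ w, W w ≤ U (r w)
  inf_le : ∀ i j, U i ⊓ U j ≤ ⨆ w : {w : ω // l w = i ∧ r w = j}, W w.1

attribute [instance] Cover.fin Cover.finω

lemma exists_cover [QuasiCompact X.hom] [QuasiSeparated X.hom] : Nonempty (Cover X) := by
  haveI : CompactSpace X.left := QuasiCompact.compactSpace_of_compactSpace X.hom
  haveI : QuasiSeparatedSpace X.left := quasiSeparatedSpace_of_quasiSeparated X.hom
  have hfin : ∀ V : X.left.Opens, IsCompact (V : Set X.left) →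
      ∃ s : Set X.left.affineOpens, s.Finite ∧ V = ⨆ i ∈ s, (i : X.left.affineOpens).1 := fun V hV => by
    obtain ⟨s, hs, e⟩ := (isCompact_and_isOpen_iff_finite_and_eq_biUnion_affineOpens).1 ⟨hV, V.2⟩
    refine ⟨s, hs, Opens.ext ?_⟩
    rw [Opens.coe_iSup]
    simp only [Opens.coe_iSup]
    exact e
  obtain ⟨s, hs, he⟩ := hfin ⊤ isCompact_univ
  have hint : ∀ i j : s, ∃ t : Set X.left.affineOpens, t.Finite ∧
      (i.1.1 ⊓ j.1.1 : X.left.Opens) = ⨆ a ∈ t, (a : X.left.affineOpens).1 := fun i j => hfin _ <| by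
    rw [Opens.coe_inf]
    exact QuasiSeparatedSpace.inter_isCompact _ _ i.1.1.2 i.1.2.isCompact j.1.1.2 j.1.2.isCompact
  choose t ht hte using hint
  haveI : Fintype s := hs.fintype
  haveI : ∀ i j, Fintype (t i j) := fun i j => (ht i j).fintype
  refine ⟨{ κ := s, U := fun i => i.1.1, hU := fun i => i.1.2, iSup_U := ?_, ω := Σ i : s, Σ j : s, t i j,
            l := fun w => w.1, r := fun w => w.2.1, W := fun w => w.2.2.1.1, hW := fun w => w.2.2.1.2,
            hl := fun w => ?_, hr := fun w => ?_, inf_le := fun i j => ?_ }⟩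
  · rw [he]
    exact iSup₂_le fun i hi => le_iSup_of_le ⟨i, hi⟩ le_rfl
  · refine le_trans ?_ (inf_le_left (b := w.2.1.1.1))
    rw [hte]
    exact le_iSup₂_of_le (f := fun (a : X.left.affineOpens) (_ : a ∈ t w.1 w.2.1) => a.1) w.2.2.1 w.2.2.2 le_rfl
  · refine le_trans ?_ (inf_le_right (a := w.1.1.1))
    rw [hte]
    exact le_iSup₂_of_le (f := fun (a : X.left.affineOpens) (_ : a ∈ t w.1 w.2.1) => a.1) w.2.2.1 w.2.2.2 le_rfl
  · rw [hte]
    exact iSup₂_le fun a ha => le_iSup_of_le ⟨⟨i, j, a, ha⟩, rfl, rfl⟩ le_rfl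

namespace Cover

variable (c : Cover X)

/-- Restriction of global functions to the cover. -/
def f : Sec X ⊤ →ₗ[R] ∀ i, Sec X (c.U i) := LinearMap.pi fun _ => (res le_top).toLinearMap

/-- The difference on the overlaps. -/
def h : (∀ i, Sec X (c.U i)) →ₗ[R] ∀ w, Sec X (c.W w) :=
  LinearMap.pi fun w => (res (c.hl w)).toLinearMap ∘ₗ LinearMap.proj (c.l w) -
    (res (c.hr w)).toLinearMap ∘ₗ LinearMap.proj (c.r w)

lemma f_injective : Function.Injective c.f := fun a b hab =>
  X.left.sheaf.eq_of_locally_eq' c.U ⊤ (fun _ => homOfLE le_top) c.iSup_U a b fun i => congrFun hab i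

lemma exact : Function.Exact c.f c.h := by
  intro y
  constructor
  · intro hy
    have hw : ∀ w, res (c.hl w) (y (c.l w)) = res (c.hr w) (y (c.r w)) := fun w =>
      sub_eq_zero.mp (congrFun hy w)
    obtain ⟨a, ha, -⟩ := X.left.sheaf.existsUnique_gluing' c.U ⊤ (fun _ => homOfLE le_top) c.iSup_U y
      fun i j => by
        refine X.left.sheaf.eq_of_locally_eq' (fun w : {w : c.ω // c.l w = i ∧ c.r w = j} => c.W w.1) _
          (fun w => homOfLE (le_inf ((c.hl w.1).trans_eq (congrArg c.U w.2.1)) ((c.hr w.1).trans_eq (congrArg c.U w.2.2)))) (c.inf_le i j) _ _ ?_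
        rintro ⟨w, rfl, rfl⟩
        have e1 := congr($(res_comp (X := X) (U := c.U (c.l w)) (V := c.U (c.l w) ⊓ c.U (c.r w))
          inf_le_left (le_inf (c.hl w) (c.hr w))) (y (c.l w)))
        have e2 := congr($(res_comp (X := X) (U := c.U (c.r w)) (V := c.U (c.l w) ⊓ c.U (c.r w))
          inf_le_right (le_inf (c.hl w) (c.hr w))) (y (c.r w)))
        exact e1.trans ((hw w).trans e2.symm)
    exact ⟨a, funext ha⟩
  · rintro ⟨a, rfl⟩
    funext w
    exact sub_eq_zero.mpr (congr($(res_comp (X := X) le_top (c.hl w)) a).trans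
      (congr($(res_comp (X := X) le_top (c.hr w)) a).symm))

variable (P : Type u) [AddCommGroup P] [Module R P] [Module.Flat R P]

lemma tensor_ext (z z' : P ⊗[R] Sec X ⊤)
    (h : ∀ i, (res (X := X) (le_top : c.U i ≤ ⊤)).toLinearMap.lTensor P z =
      (res (X := X) le_top).toLinearMap.lTensor P z') : z = z' := by
  classical
  refine Module.Flat.lTensor_preserves_injective_linearMap (M := P) c.f c.f_injective ?_
  refine (TensorProduct.piRight R R P fun i => Sec X (c.U i)).injective (funext fun i => ?_)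
  have key : ∀ z : P ⊗[R] Sec X ⊤, TensorProduct.piRight R R P (fun i => Sec X (c.U i)) (c.f.lTensor P z) i =
      (res (X := X) le_top).toLinearMap.lTensor P z := fun z => by
    induction z using TensorProduct.induction_on with
    | zero => simp
    | tmul p a => simp [Cover.f]
    | add a b ha hb => simp only [map_add, Pi.add_apply, ha, hb]
  rw [key, key, h i]

lemma exists_glue (y : ∀ i, P ⊗[R] Sec X (c.U i))
    (hy : ∀ w, (res (c.hl w)).toLinearMap.lTensor P (y (c.l w)) =
      (res (c.hr w)).toLinearMap.lTensor P (y (c.r w))) :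
    ∃ z : P ⊗[R] Sec X ⊤, ∀ i, (res (X := X) le_top).toLinearMap.lTensor P z = y i := by
  classical
  let e₁ := TensorProduct.piRight R R P fun i => Sec X (c.U i)
  let e₂ := TensorProduct.piRight R R P fun w => Sec X (c.W w)
  have key : ∀ (q : P ⊗[R] ∀ i, Sec X (c.U i)) (w : c.ω), e₂ (c.h.lTensor P q) w =
      (res (c.hl w)).toLinearMap.lTensor P (e₁ q (c.l w)) -
        (res (c.hr w)).toLinearMap.lTensor P (e₁ q (c.r w)) := fun q w => by
    induction q using TensorProduct.induction_on with
    | zero => simp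
    | tmul p a => simp [e₁, e₂, Cover.h, TensorProduct.tmul_sub]
    | add a b ha hb => simp only [map_add, Pi.add_apply, ha, hb]; abel
  have h0 : c.h.lTensor P (e₁.symm y) = 0 := e₂.injective (funext fun w => by
    rw [key, e₁.apply_symm_apply, map_zero, Pi.zero_apply, sub_eq_zero]
    exact hy w)
  obtain ⟨z, hz⟩ := (Module.Flat.lTensor_exact P c.exact _).1 h0
  refine ⟨z, fun i => ?_⟩
  have := congrArg (fun q => e₁ q i) hz
  simp only [e₁.apply_symm_apply] at this
  rw [← this]
  clear this hz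
  induction z using TensorProduct.induction_on with
  | zero => simp
  | tmul p a => simp [e₁, Cover.f]
  | add a b ha hb => simp only [map_add, Pi.add_apply, ha, hb]

/-- Every point of `X` factors locally through the cover. -/
lemma hcov (B : Type u) [CommRing B] [Algebra R B] (g : VecGrp.pt R B ⟶ X) (p : PrimeSpectrum B) :
    ∃ (f : B) (i : c.κ) (ψ : Sec X (c.U i) →ₐ[R] Localization.Away f), f ∉ p.asIdeal ∧
      VecGrp.ptMap ψ ≫ uPt (c.hU i) = VecGrp.ptMap (IsScalarTower.toAlgHom R B (Localization.Away f)) ≫ g := by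
  obtain ⟨i, hi⟩ := Opens.mem_iSup.mp (c.iSup_U (show g.left p ∈ (⊤ : X.left.Opens) from trivial))
  let V : Opens (PrimeSpectrum B) := g.left ⁻¹ᵁ c.U i
  obtain ⟨_, ⟨f, rfl⟩, hpf, hfV⟩ := PrimeSpectrum.isTopologicalBasis_basic_opens.exists_subset_of_mem_open
    (show p ∈ (V : Set (PrimeSpectrum B)) from hi) V.2
  let loc := IsScalarTower.toAlgHom R B (Localization.Away f)
  have hrange : Set.range (VecGrp.ptMap loc ≫ g).left ⊆ Set.range (c.hU i).fromSpec := by
    rw [(c.hU i).range_fromSpec]
    rintro _ ⟨z, rfl⟩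
    have hz : (Spec.map (CommRingCat.ofHom (algebraMap B (Localization.Away f)))) z ∈
        (PrimeSpectrum.basicOpen f : Set (PrimeSpectrum B)) := by
      rw [← PrimeSpectrum.localization_away_comap_range (Localization.Away f) f]
      exact ⟨z, rfl⟩
    exact hfV hz
  haveI : IsOpenImmersion (c.hU i).fromSpec := IsAffineOpen.isOpenImmersion_fromSpec _
  let ψ₀ : Γ(X.left, c.U i) ⟶ CommRingCat.of (Localization.Away f) :=
    Spec.preimage (IsOpenImmersion.lift (c.hU i).fromSpec _ hrange)
  have hψ₀ : Spec.map ψ₀ ≫ (uPt (c.hU i)).left = (VecGrp.ptMap loc ≫ g).left := by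
    simp only [ψ₀, uPt, Spec.map_preimage, Over.homMk_left]
    exact IsOpenImmersion.lift_fac _ _ _
  have hcomm : (Scheme.ΓSpecIso (CommRingCat.of R)).inv ≫ X.hom.appLE ⊤ (c.U i) le_top ≫ ψ₀ =
      CommRingCat.ofHom (algebraMap R (Localization.Away f)) := by
    apply Spec.map_injective
    rw [← Category.assoc, Spec.map_comp]
    have := congrArg (· ≫ X.hom) hψ₀
    simp only [Category.assoc] at this
    erw [Over.w (VecGrp.ptMap loc ≫ g), Over.w (uPt (c.hU i))] at this
    exact this
  refine ⟨f, i, { ψ₀.hom with commutes' := fun r => congrArg (fun φ => φ.hom r) hcomm }, hpf, ?_⟩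
  ext1
  exact hψ₀

/-- Flatness of the charts. -/
lemma flat_sec [Flat X.hom] (i : c.κ) : Module.Flat R (Sec X (c.U i)) :=
  RingHom.flat_algebraMap_iff.mp ((RingHom.Flat.of_bijective
    (ConcreteCategory.bijective_of_isIso (Scheme.ΓSpecIso (CommRingCat.of R)).inv)).comp
      (X.hom.flat_appLE (isAffineOpen_top _) (c.hU i) le_top))

end Cover

section Main

variable {G : Over (Spec (CommRingCat.of R))} [GrpObj G] {E : Type u} [AddCommGroup E] [Module R E]

/-- The orbit map evaluated at a point. -/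
def ev {B : Type u} [CommRing B] [Algebra R B] (g : VecGrp.pt R B ⟶ G) :
    E ⊗[R] Sec G ⊤ →ₗ[R] B ⊗[R] E :=
  (TensorProduct.comm R E B).toLinearMap ∘ₗ (val g).toLinearMap.lTensor E

lemma Wmap_ev {B B' : Type u} [CommRing B] [Algebra R B] [CommRing B'] [Algebra R B'] (φ : B →ₐ[R] B')
    (g : VecGrp.pt R B ⟶ G) (z : E ⊗[R] Sec G ⊤) :
    VecGrp.Wmap φ (ev g z) = ev (VecGrp.ptMap φ ≫ g) z := by
  induction z using TensorProduct.induction_on with
  | zero => simp
  | tmul e a => simp [ev, val_ptMap]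
  | add a b ha hb => simp only [map_add, ha, hb]

variable [Module.Flat R E] (c : Cover G) (m : VecGrp.GMod G E)
include c

lemma exists_coact (x : E) :
    ∃ z : E ⊗[R] Sec G ⊤, ∀ (B : Type u) [CommRing B] [Algebra R B] (g : VecGrp.pt R B ⟶ G),
      m.ρ B g ((1 : B) ⊗ₜ[R] x) = ev g z := by
  let y : ∀ i, E ⊗[R] Sec G (c.U i) := fun i =>
    (TensorProduct.comm R E (Sec G (c.U i))).symm (m.ρ _ (uPt (c.hU i)) (1 ⊗ₜ[R] x))
  have hres : ∀ {U V : G.left.Opens} (h : V ≤ U) (q : Sec G U ⊗[R] E),
      (res h).toLinearMap.lTensor E ((TensorProduct.comm R E (Sec G U)).symm q) =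
        (TensorProduct.comm R E (Sec G V)).symm (VecGrp.Wmap (res h) q) := fun h q => by
    induction q using TensorProduct.induction_on with
    | zero => simp
    | tmul s e => simp
    | add a b ha hb => simp only [map_add, ha, hb]
  obtain ⟨z, hz⟩ := c.exists_glue E y fun w => by
    simp only [y, hres, m.naturality, VecGrp.Wmap_tmul, map_one]
    rw [ptMap_res_uPt (c.hU _) (c.hW w), ptMap_res_uPt (c.hU _) (c.hW w)]
  have hu : ∀ i, m.ρ _ (uPt (c.hU i)) ((1 : Sec G (c.U i)) ⊗ₜ[R] x) = ev (uPt (c.hU i)) z := fun i => by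
    simp only [ev, val_uPt, LinearMap.comp_apply, hz i, y, LinearEquiv.coe_coe, LinearEquiv.apply_symm_apply]
  refine ⟨z, fun B _ _ g => sub_eq_zero.mp (GModComod.Stable.eq_zero_of_locally _ fun p => ?_)⟩
  obtain ⟨f, i, ψ, hf, hψ⟩ := c.hcov B g p
  refine ⟨f, hf, ?_⟩
  let loc := IsScalarTower.toAlgHom R B (Localization.Away f)
  have h1 : ∀ y : B ⊗[R] E, TensorProduct.AlgebraTensorModule.rTensor R E
      (Algebra.linearMap B (Localization.Away f)) y = VecGrp.Wmap loc y := fun y => by
    induction y using TensorProduct.induction_on with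
    | zero => simp
    | add z w hz hw => simp only [map_add, hz, hw]
    | tmul b y => rfl
  rw [h1, map_sub, m.naturality, VecGrp.Wmap_tmul, map_one, Wmap_ev, ← hψ, sub_eq_zero, ← map_one ψ,
    ← VecGrp.Wmap_tmul, ← m.naturality, hu, Wmap_ev]

lemma exists_comul (B : Type u) [CommRing B] [Algebra R B] [Module.Flat R B] (u : VecGrp.pt R B ⟶ G)
    (a : Sec G ⊤) :
    ∃ v : B ⊗[R] Sec G ⊤, ∀ i, (res (X := G) le_top).toLinearMap.lTensor B v =
      val ((VecGrp.ptMap (Algebra.TensorProduct.includeLeft : B →ₐ[R] B ⊗[R] Sec G (c.U i)) ≫ u) *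
        (VecGrp.ptMap Algebra.TensorProduct.includeRight ≫ uPt (c.hU i))) a := by
  refine c.exists_glue B _ fun w => ?_
  have key : ∀ {U V : G.left.Opens} (hU : IsAffineOpen U) (hV : IsAffineOpen V) (h : V ≤ U),
      (res h).toLinearMap.lTensor B
        (val ((VecGrp.ptMap (Algebra.TensorProduct.includeLeft : B →ₐ[R] B ⊗[R] Sec G U) ≫ u) *
          (VecGrp.ptMap Algebra.TensorProduct.includeRight ≫ uPt hU)) a) =
      val ((VecGrp.ptMap (Algebra.TensorProduct.includeLeft : B →ₐ[R] B ⊗[R] Sec G V) ≫ u) *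
          (VecGrp.ptMap Algebra.TensorProduct.includeRight ≫ uPt hV)) a := fun {U V} hU hV h => by
    let Φ : B ⊗[R] Sec G U →ₐ[R] B ⊗[R] Sec G V := Algebra.TensorProduct.map (AlgHom.id R B) (res h)
    have hΦ : ∀ q, (res h).toLinearMap.lTensor B q = Φ q := fun q => by
      induction q using TensorProduct.induction_on with
      | zero => simp
      | tmul b s => simp [Φ]
      | add a b ha hb => simp only [map_add, ha, hb]
    rw [hΦ, ← AlgHom.comp_apply, ← val_ptMap, MonObj.comp_mul, ptMap_comp_assoc, ptMap_comp_assoc,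
      show Φ.comp Algebra.TensorProduct.includeLeft = Algebra.TensorProduct.includeLeft from
        AlgHom.ext fun b => by simp [Φ],
      show Φ.comp Algebra.TensorProduct.includeRight = Algebra.TensorProduct.includeRight.comp (res h) from
        AlgHom.ext fun b => by simp [Φ],
      ← ptMap_comp_assoc, ptMap_res_uPt hU hV h]
  rw [key (c.hU _) (c.hW w), key (c.hU _) (c.hW w)]

/-- The coefficient space of an element is stable. -/
theorem exists_fg_stable [Flat G.hom] [Module.Projective R (Sec G ⊤)] (M : Submodule R E) (hM : M.FG) :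
    ∃ N : Submodule R E, M ≤ N ∧ N.FG ∧
      ∀ (B : Type u) [CommRing B] [Algebra R B] (g : VecGrp.pt R B ⟶ G) (x : E), x ∈ N →
        m.ρ B g ((1 : B) ⊗ₜ[R] x) ∈ LinearMap.range (N.subtype.baseChange B) := by
  classical
  obtain ⟨s, hs⟩ := hM
  choose z hz using fun x => exists_coact c m x
  obtain ⟨σ, hσ⟩ := Module.projective_def.1 (inferInstance : Module.Projective R (Sec G ⊤))
  let coef : E → Module.Dual R (Sec G ⊤) →ₗ[R] E := fun x =>
    { toFun := fun φ => TensorProduct.rid R E (φ.lTensor E (z x))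
      map_add' := fun φ ψ => by simp [LinearMap.lTensor_add]
      map_smul' := fun r φ => by simp [LinearMap.lTensor_smul] }
  let N : Submodule R E := ⨆ x : s, LinearMap.range (coef x.1)
  -- expansion along dual coordinates
  have hexp : ∀ x : E, ∃ T : Finset (Sec G ⊤), z x = ∑ a ∈ T,
      coef x ((Finsupp.lapply a) ∘ₗ σ) ⊗ₜ[R] a := fun x => by
    let q := TensorProduct.finsuppScalarRight R R E (Sec G ⊤) (σ.lTensor E (z x))
    refine ⟨q.support, ?_⟩
    have h1 : ∀ (w : E ⊗[R] Sec G ⊤) (a : Sec G ⊤),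
        TensorProduct.finsuppScalarRight R R E (Sec G ⊤) (σ.lTensor E w) a =
          TensorProduct.rid R E (((Finsupp.lapply a) ∘ₗ σ).lTensor E w) := fun w a => by
      induction w using TensorProduct.induction_on with
      | zero => simp
      | tmul e b => simp
      | add a b ha hb => simp only [map_add, Finsupp.add_apply, ha, hb]
    have h2 : ∀ Q : Sec G ⊤ →₀ E, (Finsupp.linearCombination R id).lTensor E
        ((TensorProduct.finsuppScalarRight R R E (Sec G ⊤)).symm Q) = ∑ a ∈ Q.support, Q a ⊗ₜ[R] a := fun Q => by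
      conv_lhs => rw [← Finsupp.sum_single Q]
      simp [Finsupp.sum, map_sum]
    have h3 := h2 q
    rw [LinearEquiv.symm_apply_apply, ← LinearMap.comp_apply, ← LinearMap.lTensor_comp,
      show (Finsupp.linearCombination R id) ∘ₗ σ = LinearMap.id from LinearMap.ext hσ,
      LinearMap.lTensor_id, LinearMap.id_apply] at h3
    rw [h3]
    exact Finset.sum_congr rfl fun a _ => by rw [h1]; rfl
  have hNfg : N.FG := Submodule.fg_iSup _ fun x => by
    obtain ⟨T, hT⟩ := hexp x.1
    let g : T → E := fun a => coef x.1 ((Finsupp.lapply a.1) ∘ₗ σ)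
    have hle : LinearMap.range (coef x.1) = Submodule.span R (Set.range g) := by
      refine le_antisymm ?_ (Submodule.span_le.mpr ?_)
      · rintro _ ⟨φ, rfl⟩
        show TensorProduct.rid R E (φ.lTensor E (z x.1)) ∈ _
        rw [hT, map_sum, map_sum]
        refine Submodule.sum_mem _ fun a ha => ?_
        rw [LinearMap.lTensor_tmul, TensorProduct.rid_tmul]
        exact Submodule.smul_mem _ _ (Submodule.subset_span ⟨⟨a, ha⟩, rfl⟩)
      · rintro _ ⟨a, rfl⟩
        exact ⟨_, rfl⟩
    rw [hle]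
    exact Submodule.fg_span (Set.finite_range g)
  refine ⟨N, ?_, hNfg, fun B _ _ g y hy => ?_⟩
  · rw [← hs, Submodule.span_le]
    intro x hx
    refine Submodule.mem_iSup_of_mem ⟨x, hx⟩ ⟨(val (1 : VecGrp.pt R R ⟶ G)).toLinearMap, ?_⟩
    have h := hz x R 1
    rw [map_one] at h
    have h2 := congrArg (TensorProduct.lid R E) h
    simp only [LinearEquiv.coe_one, id_eq, TensorProduct.lid_tmul, one_smul] at h2
    refine Eq.trans ?_ h2.symm
    simp only [coef, LinearMap.coe_mk, AddHom.coe_mk, ev, LinearMap.comp_apply]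
    induction (val (1 : VecGrp.pt R R ⟶ G)).toLinearMap.lTensor E (z x) using TensorProduct.induction_on with
    | zero => simp
    | tmul e r => simp
    | add a b ha hb => simp only [map_add, ha, hb]
  -- stability: reduce to the generators and the charts
  have hgen : ∀ (x : E), x ∈ s → ∀ (φ : Module.Dual R (Sec G ⊤)) (k : c.κ),
      m.ρ (Sec G (c.U k)) (uPt (c.hU k)) ((1 : Sec G (c.U k)) ⊗ₜ[R] coef x φ) ∈
        LinearMap.range (N.subtype.baseChange (Sec G (c.U k))) := by
    intro x hx φ k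
    let C := Sec G (c.U k)
    haveI : Module.Flat R C := c.flat_sec k
    haveI : ∀ i, Module.Flat R (Sec G (c.U i)) := c.flat_sec
    let P := C ⊗[R] E
    let ψ : E →ₗ[R] P := (m.ρ C (uPt (c.hU k))).toLinearMap.restrictScalars R ∘ₗ TensorProduct.mk R C E 1
    -- the comultiplication of a global function
    choose v hv using exists_comul c C (uPt (c.hU k))
    have hxN : ∀ a, coef x a ∈ N := fun a => Submodule.mem_iSup_of_mem ⟨x, hx⟩ ⟨a, rfl⟩
    obtain ⟨T, hT⟩ := hexp x
    let Z' : P ⊗[R] Sec G ⊤ := ∑ a ∈ T,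
      ((TensorProduct.mk R C E).flip (coef x (Finsupp.lapply a ∘ₗ σ))).rTensor (Sec G ⊤) (v a)
    have hZ : ψ.rTensor (Sec G ⊤) (z x) = Z' := by
      refine c.tensor_ext P _ _ fun i => ?_
      let B' := C ⊗[R] Sec G (c.U i)
      let σ' : C →ₐ[R] B' := Algebra.TensorProduct.includeLeft
      let τ' : Sec G (c.U i) →ₐ[R] B' := Algebra.TensorProduct.includeRight
      let Θ : P ⊗[R] Sec G (c.U i) ≃ₗ[R] B' ⊗[R] E := TensorProduct.rightComm R C E (Sec G (c.U i))
      have hsm : ∀ (d : Sec G (c.U i)) (q : P), Θ (q ⊗ₜ[R] d) = τ' d • VecGrp.Wmap σ' q := fun d q => by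
        induction q using TensorProduct.induction_on with
        | zero => simp
        | tmul b e => simp [Θ, σ', τ', B', P, TensorProduct.rightComm, TensorProduct.smul_tmul', Algebra.TensorProduct.tmul_mul_tmul]
        | add a b ha hb => simp only [TensorProduct.add_tmul, map_add, smul_add, ha, hb]
      have hL : ∀ w : E ⊗[R] Sec G ⊤, Θ ((res (X := G) le_top).toLinearMap.lTensor P (ψ.rTensor _ w)) =
          m.ρ B' (VecGrp.ptMap σ' ≫ uPt (c.hU k)) (VecGrp.Wmap τ' (ev (uPt (c.hU i)) w)) := fun w => by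
        induction w using TensorProduct.induction_on with
        | zero => simp
        | add a b ha hb => simp only [map_add, ha, hb]
        | tmul e a =>
          rw [LinearMap.rTensor_tmul, LinearMap.lTensor_tmul, hsm]
          show τ' (res (X := G) le_top a) • VecGrp.Wmap σ' (m.ρ C (uPt (c.hU k)) ((1 : C) ⊗ₜ[R] e)) = _
          rw [m.naturality, VecGrp.Wmap_tmul, map_one, ← map_smul, TensorProduct.smul_tmul', smul_eq_mul,
            _root_.mul_one]
          simp [ev, val_uPt]
      apply Θ.injective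
      rw [hL, ← hz x, m.naturality, VecGrp.Wmap_tmul, map_one, ← LinearEquiv.mul_apply, ← map_mul, hz x, hT]
      simp only [map_sum, Z']
      refine Finset.sum_congr rfl fun a _ => ?_
      have hflip : ∀ q : C ⊗[R] Sec G ⊤, Θ ((res (X := G) le_top).toLinearMap.lTensor P
          (((TensorProduct.mk R C E).flip (coef x (Finsupp.lapply a ∘ₗ σ))).rTensor (Sec G ⊤) q)) =
          ((res (X := G) le_top).toLinearMap.lTensor C q) ⊗ₜ[R] coef x (Finsupp.lapply a ∘ₗ σ) := fun q => by
        induction q using TensorProduct.induction_on with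
        | zero => simp
        | tmul b e =>
          simp only [LinearMap.rTensor_tmul, LinearMap.lTensor_tmul, LinearMap.flip_apply, TensorProduct.mk_apply]
          exact TensorProduct.rightComm_tmul (R := R) _ _ _
        | add a b ha hb => simp only [map_add, TensorProduct.add_tmul, ha, hb]
      rw [hflip, hv a i]
      rfl
    have e1 : m.ρ C (uPt (c.hU k)) ((1 : C) ⊗ₜ[R] coef x φ) =
        TensorProduct.rid R P (φ.lTensor P (ψ.rTensor (Sec G ⊤) (z x))) := by
      show ψ (TensorProduct.rid R E (φ.lTensor E (z x))) = _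
      induction z x using TensorProduct.induction_on with
      | zero => simp
      | tmul e a => simp
      | add a b ha hb => simp only [map_add, ha, hb]
    rw [e1, hZ, map_sum, map_sum]
    refine Submodule.sum_mem ((LinearMap.range (N.subtype.baseChange C)).restrictScalars R) fun a _ => ?_
    induction v a using TensorProduct.induction_on with
    | zero => simp
    | add a b ha hb => simpa only [map_add] using Submodule.add_mem _ ha hb
    | tmul b a' =>
      simp only [LinearMap.rTensor_tmul, LinearMap.lTensor_tmul, TensorProduct.rid_tmul]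
      refine Submodule.smul_mem _ _ ⟨b ⊗ₜ[R] (⟨_, hxN (Finsupp.lapply a ∘ₗ σ)⟩ : N), ?_⟩
      simp
  have hex : ∀ (S : Type u) [CommRing S] [Algebra R S] (q : S ⊗[R] E),
      N.mkQ.baseChange S q = 0 ↔ q ∈ LinearMap.range (N.subtype.baseChange S) := fun S _ _ q =>
    lTensor_exact S (LinearMap.exact_subtype_mkQ N) N.mkQ_surjective q
  refine (hex B _).1 (GModComod.Stable.vanish_of_cover G (fun i => Sec G (c.U i))
    (fun i => uPt (c.hU i)) c.hcov m N.mkQ y (fun k => (hex _ _).2 ?_) B g)
  induction hy using Submodule.iSup_induction' with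
  | mem x y hy =>
    obtain ⟨φ, rfl⟩ := hy
    exact hgen x.1 x.2 φ k
  | zero => rw [TensorProduct.tmul_zero, map_zero]; exact zero_mem _
  | add a b _ _ ha hb => rw [TensorProduct.tmul_add, map_add]; exact add_mem ha hb

end Main

end Groth.Agent.GModPts19
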